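import Groth.Agent.L12.EvenCentre.Split
import Groth.Agent.L15.QG.EvenAlg

/-! The even Clifford algebra of a regular form of even rank splits fppf-locally, for a module in any universe. -/

set_option autoImplicit false

namespace Groth.L12.EvenCentre

open TensorProduct CliffordAlgebra

universe u v w

variable {R : Type u} [CommRing R] {M : Type v} [AddCommGroup M] [Module R M] {N : Type w} [AddCommGroup N] [Module R N]
  {Q : QuadraticForm R M} {Q' : QuadraticForm R N}

theorem map_mem_even (f : Q →qᵢ Q') {x : CliffordAlgebra Q} (hx : x ∈ evenOdd Q 0) :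
    CliffordAlgebra.map f x ∈ evenOdd Q' 0 := by
  induction x, hx using CliffordAlgebra.even_induction with
  | algebraMap r => rw [AlgHom.commutes]; exact SetLike.algebraMap_mem_graded _ r
  | add x y _ _ hx hy => rw [map_add]; exact Submodule.add_mem _ hx hy
  | ι_mul_ι_mul m₁ m₂ x _ hx =>
    rw [map_mul, map_mul, map_apply_ι, map_apply_ι]
    have := SetLike.mul_mem_graded (ι_mul_ι_mem_evenOdd_zero Q' (f m₁) (f m₂)) hx
    rwa [add_zero] at this

theorem nonempty_even_congr (e : Q.IsometryEquiv Q') :
    Nonempty (↥(CliffordAlgebra.even Q) ≃ₐ[R] ↥(CliffordAlgebra.even Q')) := by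
  let F := ((CliffordAlgebra.map e.toIsometry).comp (CliffordAlgebra.even Q).val).codRestrict (CliffordAlgebra.even Q')
    fun x => map_mem_even e.toIsometry x.2
  let G := ((CliffordAlgebra.map e.symm.toIsometry).comp (CliffordAlgebra.even Q').val).codRestrict
    (CliffordAlgebra.even Q) fun x => map_mem_even e.symm.toIsometry x.2
  exact ⟨AlgEquiv.ofAlgHom F G (AlgHom.ext fun x => Subtype.ext ((CliffordAlgebra.equivOfIsometry e).apply_symm_apply (x : CliffordAlgebra Q')))
    (AlgHom.ext fun x => Subtype.ext ((CliffordAlgebra.equivOfIsometry e).symm_apply_apply (x : CliffordAlgebra Q)))⟩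

end Groth.L12.EvenCentre
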