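import Groth.Agent.L11.Az.Basic
import Mathlib.RingTheory.Etale.Descent
import Mathlib.RingTheory.Etale.Pi
import Mathlib.RingTheory.Unramified.Finite
import Mathlib.RingTheory.Spectrum.Prime.FreeLocus
import Mathlib.Data.Matrix.Basis
import Mathlib.LinearAlgebra.FreeModule.Finite.Matrix
import Mathlib.RingTheory.Finiteness.Prod

/-! An algebra which is fppf-locally a product of two matrix algebras has an étale centre of rank two,
over which it is Azumaya. -/

set_option autoImplicit false

namespace Groth.L12.EvenCentre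

open TensorProduct

universe u w

section Baseline

variable {A : Type u} [CommRing A] {A' : Type u} [CommRing A'] [Algebra A A']
variable {C : Type w} [Ring C] [Algebra A C]

/-- The inclusion of the base changed centre. -/
noncomputable def cIncl : A' ⊗[A] Subalgebra.center A C →ₐ[A'] A' ⊗[A] C :=
  Algebra.TensorProduct.map (AlgHom.id A' A') (Subalgebra.center A C).val

theorem exists_cIncl_eq [Module.Flat A A'] [Module.Finite A C] {y : A' ⊗[A] C}
    (hy : ∀ g : C, ((1 : A') ⊗ₜ g) * y = y * (1 ⊗ₜ g)) : ∃ x, cIncl (A := A) (A' := A') (C := C) x = y := by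
  obtain ⟨n, s, hs⟩ := Module.Finite.exists_fin (R := A) (M := C)
  let f : C →ₗ[A] (Fin n → C) := LinearMap.pi fun i => LinearMap.mulLeft A (s i) - LinearMap.mulRight A (s i)
  have hex : Function.Exact (Subalgebra.center A C).val.toLinearMap f := by
    intro c
    constructor
    · intro hc
      refine ⟨⟨c, Subalgebra.mem_center_iff.2 fun g => ?_⟩, rfl⟩
      have hg : g ∈ Submodule.span A (Set.range s) := hs ▸ trivial
      induction hg using Submodule.span_induction with
      | mem x hx =>
        obtain ⟨i, rfl⟩ := hx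
        have := congrFun hc i
        simpa [f, sub_eq_zero] using this
      | zero => simp
      | add x y _ _ hx hy => rw [add_mul, mul_add, hx, hy]
      | smul a x _ hx => rw [smul_mul_assoc, mul_smul_comm, hx]
    · rintro ⟨z, rfl⟩
      funext i
      simp only [f, LinearMap.pi_apply, LinearMap.sub_apply, LinearMap.mulLeft_apply, LinearMap.mulRight_apply,
        AlgHom.toLinearMap_apply, Subalgebra.coe_val, Pi.zero_apply]
      rw [Subalgebra.mem_center_iff.1 z.2 (s i), sub_self]
  have h := Module.Flat.lTensor_exact A' hex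
  have hy0 : f.lTensor A' y = 0 := by
    refine (TensorProduct.piRight A A A' fun _ : Fin n => C).injective ?_
    rw [map_zero]
    funext i
    have key : ∀ z : A' ⊗[A] C, TensorProduct.piRight A A A' (fun _ : Fin n => C) (f.lTensor A' z) i =
        ((1 : A') ⊗ₜ s i) * z - z * (1 ⊗ₜ s i) := fun z => by
      induction z using TensorProduct.induction_on with
      | zero => simp
      | add a b ha hb => simp only [map_add, Pi.add_apply, ha, hb, mul_add, add_mul]; abel
      | tmul a c => simp [f, TensorProduct.tmul_sub]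
    rw [key, hy, sub_self, Pi.zero_apply]
  obtain ⟨x, hx⟩ := (h y).1 hy0
  refine ⟨x, ?_⟩
  rw [← hx]
  clear hx
  induction x using TensorProduct.induction_on with
  | zero => simp
  | add a b ha hb => simp [ha, hb]
  | tmul a c => simp [cIncl]

theorem cIncl_injective [Module.Flat A A'] : Function.Injective (cIncl (A := A) (A' := A') (C := C)) := by
  have : ∀ x, cIncl (A := A) (A' := A') (C := C) x = (Subalgebra.center A C).val.toLinearMap.lTensor A' x := fun x => by
    induction x using TensorProduct.induction_on with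
    | zero => simp
    | add a b ha hb => simp [ha, hb]
    | tmul a c => simp [cIncl]
  intro x y h
  rw [this, this] at h
  exact Module.Flat.lTensor_preserves_injective_linearMap (M := A') _ Subtype.val_injective h

end Baseline

section Theta

variable (R : Type u) [CommRing R] (ι : Type) [Fintype ι] [DecidableEq ι]

/-- Two matrices as one matrix with entries pairs. -/
noncomputable def theta : (Matrix ι ι R × Matrix ι ι R) ≃ₐ[R] Matrix ι ι (Fin 2 → R) :=
  AlgEquiv.ofBijective
    (AlgHom.ofLinearMap
      { toFun := fun X => Matrix.of fun i j => ![X.1 i j, X.2 i j]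
        map_add' := fun X Y => by ext i j k; fin_cases k <;> simp
        map_smul' := fun c X => by ext i j k; fin_cases k <;> simp }
      (by ext i j k; fin_cases k <;> by_cases h : i = j <;> simp [h, Matrix.one_apply])
      (fun X Y => by ext i j k; fin_cases k <;> simp [Matrix.mul_apply, Finset.sum_apply]))
    ⟨fun X Y h => by
        have h' : ∀ i j k, (![X.1 i j, X.2 i j] : Fin 2 → R) k = (![Y.1 i j, Y.2 i j] : Fin 2 → R) k :=
          fun i j k => congrFun (congrFun (congrFun h i) j) k
        exact Prod.ext (Matrix.ext fun i j => h' i j 0) (Matrix.ext fun i j => h' i j 1),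
      fun M => ⟨(Matrix.of fun i j => M i j 0, Matrix.of fun i j => M i j 1), by ext i j k; fin_cases k <;> simp⟩⟩

theorem theta_apply (X : Matrix ι ι R × Matrix ι ι R) (i j : ι) :
    theta R ι X i j = ![X.1 i j, X.2 i j] := rfl

/-- Pairs of scalars. -/
noncomputable def scal (t : Fin 2 → R) : Matrix ι ι R × Matrix ι ι R :=
  (algebraMap R _ (t 0), algebraMap R _ (t 1))

theorem theta_scal (t : Fin 2 → R) : theta R ι (scal R ι t) = algebraMap (Fin 2 → R) _ t := by
  ext i j k
  rw [theta_apply, Matrix.algebraMap_matrix_apply]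
  fin_cases k <;> by_cases h : i = j <;> simp [scal, Matrix.algebraMap_matrix_apply, h]

theorem exists_scal_eq [Nonempty ι] {X : Matrix ι ι R × Matrix ι ι R} (hX : ∀ Y, Y * X = X * Y) :
    ∃ t, scal R ι t = X := by
  have h1 : X.1 ∈ Set.center (Matrix ι ι R) :=
    Semigroup.mem_center_iff.2 fun g => congrArg Prod.fst (hX (g, 0))
  have h2 : X.2 ∈ Set.center (Matrix ι ι R) :=
    Semigroup.mem_center_iff.2 fun g => congrArg Prod.snd (hX (0, g))
  rw [Matrix.center_eq_range] at h1 h2
  obtain ⟨a, ha⟩ := h1
  obtain ⟨b, hb⟩ := h2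
  exact ⟨![a, b], Prod.ext (ha ▸ rfl) (hb ▸ rfl)⟩

theorem scal_mul_comm (t : Fin 2 → R) (Y : Matrix ι ι R × Matrix ι ι R) : Y * scal R ι t = scal R ι t * Y :=
  Prod.ext (Algebra.commutes _ _).symm (Algebra.commutes _ _).symm

end Theta

theorem isAzumaya_of_split {A : Type u} [CommRing A] {A' : Type u} [CommRing A'] [Algebra A A']
    [Module.FaithfullyFlat A A'] {C : Type w} [Ring C] [Algebra A C] {ι : Type} [Fintype ι] [DecidableEq ι]
    [Nonempty ι] (e : A' ⊗[A] C ≃ₐ[A'] (Matrix ι ι A' × Matrix ι ι A'))
    {B : Type w} [CommRing B] [Algebra A B] [Algebra B C]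
    (htow : ∀ a, algebraMap A C a = algebraMap B C (algebraMap A B a))
    (ψ : A' ⊗[A] B →ₐ[A'] (Fin 2 → A')) (hψbij : Function.Bijective ψ)
    (hφ : ∀ z : B, scal A' ι (ψ (1 ⊗ₜ z)) = e ((1 : A') ⊗ₜ algebraMap B C z)) : IsAzumaya B C := by
    haveI : IsScalarTower A B C := IsScalarTower.of_algebraMap_eq htow
    let T := Fin 2 → A'
    let φ : B →ₐ[A] T := (ψ.restrictScalars A).comp Algebra.TensorProduct.includeRight
    letI algZT : Algebra B T := φ.toRingHom.toAlgebra
    haveI : IsScalarTower A B T := IsScalarTower.of_algebraMap_eq fun a => (φ.commutes a).symm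
    let Λ : B ⊗[A] A' →ₐ[B] T :=
      Algebra.TensorProduct.lift (Algebra.ofId B T) (IsScalarTower.toAlgHom A A' T) fun _ _ => Commute.all _ _
    have hΛ : ∀ x, Λ x = ψ (TensorProduct.comm A B A' x) := fun x => by
      induction x using TensorProduct.induction_on with
      | zero => simp
      | add a b ha hb => simp [ha, hb]
      | tmul z a =>
        rw [TensorProduct.comm_tmul, show a ⊗ₜ[A] z = a • ((1 : A') ⊗ₜ[A] z) by simp [TensorProduct.smul_tmul'],
          map_smul, Algebra.smul_def, mul_comm]
        exact Algebra.TensorProduct.lift_tmul ..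
    have hΛbij : Function.Bijective Λ := by
      rw [show (Λ : _ → _) = ψ ∘ TensorProduct.comm A B A' from funext hΛ]
      exact hψbij.comp (TensorProduct.comm A B A').bijective
    haveI : Module.FaithfullyFlat B T :=
      Module.FaithfullyFlat.of_linearEquiv B (B ⊗[A] A') (AlgEquiv.ofBijective Λ hΛbij).toLinearEquiv.symm
    let χ : C →ₐ[B] Matrix ι ι T :=
      AlgHom.mk ((theta A' ι).toRingEquiv.toRingHom.comp (e.toRingEquiv.toRingHom.comp
        (Algebra.TensorProduct.includeRight : C →ₐ[A] A' ⊗[A] C).toRingHom)) fun z => by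
        show theta A' ι (e ((1 : A') ⊗ₜ algebraMap B C z)) = _
        rw [← hφ, theta_scal]
        rfl
    let L : T ⊗[B] C →ₐ[T] Matrix ι ι T :=
      Algebra.TensorProduct.lift (Algebra.ofId T _) χ fun t x => Algebra.commutes t (χ x)
    let g : A' ⊗[A] C →+ T ⊗[B] C :=
      TensorProduct.liftAddHom
        (AddMonoidHom.mk' (fun a => AddMonoidHom.mk' (fun (c : C) => algebraMap A' T a ⊗ₜ[B] c) (fun c d => TensorProduct.tmul_add _ c d))
          fun a b => by ext c; simp [TensorProduct.add_tmul])
        fun r a c => by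
          show algebraMap A' T (r • a) ⊗ₜ[B] c = algebraMap A' T a ⊗ₜ[B] (r • c)
          rw [← algebraMap_smul B r c, ← TensorProduct.smul_tmul, algebraMap_smul, Algebra.smul_def, map_mul,
            ← IsScalarTower.algebraMap_apply, ← Algebra.smul_def]
    have hg : ∀ a c, g (a ⊗ₜ[A] c) = algebraMap A' T a ⊗ₜ[B] c := fun a c => rfl
    have hLg : ∀ x, L (g x) = theta A' ι (e x) := fun x => by
      induction x using TensorProduct.induction_on with
      | zero => simp
      | add a b ha hb => simp [ha, hb]
      | tmul a c =>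
        rw [hg, show a ⊗ₜ[A] c = a • ((1 : A') ⊗ₜ[A] c) by simp [TensorProduct.smul_tmul'], map_smul, map_smul,
          Algebra.smul_def, IsScalarTower.algebraMap_apply A' T (Matrix ι ι T)]
        exact Algebra.TensorProduct.lift_tmul ..
    have hgsurj : Function.Surjective g := fun y => by
      induction y using TensorProduct.induction_on with
      | zero => exact ⟨0, map_zero g⟩
      | add a b ha hb =>
        obtain ⟨x, rfl⟩ := ha; obtain ⟨x', rfl⟩ := hb
        exact ⟨x + x', map_add g x x'⟩
      | tmul t c =>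
        obtain ⟨x, rfl⟩ := hψbij.surjective t
        induction x using TensorProduct.induction_on with
        | zero => exact ⟨0, by simp⟩
        | add a b ha hb =>
          obtain ⟨p, hp⟩ := ha; obtain ⟨q, hq⟩ := hb
          exact ⟨p + q, by rw [map_add, hp, hq, map_add, TensorProduct.add_tmul]⟩
        | tmul a z =>
          refine ⟨a ⊗ₜ[A] (z • c), ?_⟩
          rw [hg, ← TensorProduct.smul_tmul, show a ⊗ₜ[A] z = a • ((1 : A') ⊗ₜ[A] z) by simp [TensorProduct.smul_tmul'],
            map_smul, Algebra.smul_def, Algebra.smul_def, mul_comm]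
          rfl
    have hLbij : Function.Bijective L := by
      have h : Function.Bijective (fun x => L (g x)) := by
        rw [funext hLg]; exact (theta A' ι).bijective.comp e.bijective
      refine ⟨fun x y hxy => ?_, Function.Surjective.of_comp h.surjective⟩
      obtain ⟨a, rfl⟩ := hgsurj x
      obtain ⟨b, rfl⟩ := hgsurj y
      rw [h.injective hxy]
    haveI := IsAzumaya.matrix T ι
    haveI := IsAzumaya.of_AlgEquiv T (Matrix ι ι T) (T ⊗[B] C) (AlgEquiv.ofBijective L hLbij).symm
    exact Groth.L11.Az.isAzumaya_descent T C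

theorem split_conclusion {A : Type u} [CommRing A] {A' : Type u} [CommRing A'] [Algebra A A']
    [Module.FaithfullyFlat A A'] {C : Type w} [Ring C] [Algebra A C] {ι : Type} [Fintype ι] [DecidableEq ι]
    [Nonempty ι] (e : A' ⊗[A] C ≃ₐ[A'] (Matrix ι ι A' × Matrix ι ι A')) :
    letI : Algebra ↥(Subalgebra.center A C) C :=
      (Subalgebra.center A C).val.toRingHom.toAlgebra' (fun c x => (Subalgebra.mem_center_iff.mp c.2 x).symm)
    Algebra.Etale A ↥(Subalgebra.center A C) ∧ Module.Finite A ↥(Subalgebra.center A C) ∧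
      Module.Projective A ↥(Subalgebra.center A C) ∧
      (∀ p : PrimeSpectrum A, Module.rankAtStalk ↥(Subalgebra.center A C) p = 2) ∧
      IsAzumaya ↥(Subalgebra.center A C) C := by
  letI algZC : Algebra ↥(Subalgebra.center A C) C :=
    (Subalgebra.center A C).val.toRingHom.toAlgebra' (fun c x => (Subalgebra.mem_center_iff.mp c.2 x).symm)
  haveI : IsScalarTower A ↥(Subalgebra.center A C) C := IsScalarTower.of_algebraMap_eq fun _ => rfl
  haveI : Module.Finite A' (Matrix ι ι A') := inferInstance
  haveI : Module.Finite A' (A' ⊗[A] C) := Module.Finite.equiv e.toLinearEquiv.symm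
  haveI : Module.Finite A C := Module.Finite.of_finite_tensorProduct_of_faithfullyFlat A'
  let T := Fin 2 → A'
  let κ : Matrix ι ι A' × Matrix ι ι A' → T := fun X =>
    ![X.1 (Classical.arbitrary ι) (Classical.arbitrary ι), X.2 (Classical.arbitrary ι) (Classical.arbitrary ι)]
  have hκ : ∀ t, κ (scal A' ι t) = t := fun t => by
    funext k; fin_cases k <;> simp [κ, scal, Matrix.algebraMap_matrix_apply]
  have hscalinj : Function.Injective (scal A' ι) := fun s t h => by rw [← hκ s, h, hκ]
  let Sc : T →ₐ[A'] Matrix ι ι A' × Matrix ι ι A' :=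
    AlgHom.ofLinearMap
      { toFun := scal A' ι
        map_add' := fun (s t : Fin 2 → A') => by simp [scal, Prod.ext_iff, T]
        map_smul' := fun c t => by simp [scal, Algebra.smul_def, Prod.ext_iff, T, Pi.algebraMap_apply] }
      (by simp [scal, Prod.ext_iff, T]) (fun s t => by simp [scal, Prod.ext_iff, T])
  have hScinj : Function.Injective Sc := hscalinj
  have hcentral : ∀ x : A' ⊗[A] ↥(Subalgebra.center A C), ∀ y, y * e (cIncl (A := A) (A' := A') (C := C) x) = e (cIncl (A := A) (A' := A') (C := C) x) * y := fun x y => by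
    obtain ⟨y, rfl⟩ := e.surjective y
    rw [← map_mul, ← map_mul]
    congr 1
    induction x using TensorProduct.induction_on with
    | zero => simp
    | add a b ha hb => rw [map_add, mul_add, add_mul, ha, hb]
    | tmul a z =>
      induction y using TensorProduct.induction_on with
      | zero => simp
      | add p q hp hq => rw [add_mul, mul_add, hp, hq]
      | tmul b c =>
        simp only [cIncl, Algebra.TensorProduct.map_tmul, AlgHom.id_apply, Subalgebra.coe_val,
          Algebra.TensorProduct.tmul_mul_tmul]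
        rw [mul_comm, Subalgebra.mem_center_iff.1 z.2 c]
  have hrange : ∀ x : A' ⊗[A] ↥(Subalgebra.center A C), e (cIncl (A := A) (A' := A') (C := C) x) ∈ Sc.range := fun x => by
    obtain ⟨t, ht⟩ := exists_scal_eq A' ι (hcentral x)
    exact ⟨t, ht⟩
  let ψ : A' ⊗[A] ↥(Subalgebra.center A C) →ₐ[A'] T :=
    (AlgEquiv.ofInjective Sc hScinj).symm.toAlgHom.comp ((e.toAlgHom.comp (cIncl (A := A) (A' := A') (C := C))).codRestrict Sc.range hrange)
  have hψ : ∀ x, scal A' ι (ψ x) = e (cIncl (A := A) (A' := A') (C := C) x) := fun x => by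
    have := AlgEquiv.apply_symm_apply (AlgEquiv.ofInjective Sc hScinj) ⟨e (cIncl (A := A) (A' := A') (C := C) x), hrange x⟩
    exact congrArg Subtype.val this
  have hψbij : Function.Bijective ψ := by
    refine ⟨fun x y h => cIncl_injective (e.injective ?_), fun t => ?_⟩
    · rw [← hψ, ← hψ, h]
    · obtain ⟨x, hx⟩ := exists_cIncl_eq (A := A) (y := e.symm (scal A' ι t)) fun g => e.injective (by
        rw [map_mul, map_mul, AlgEquiv.apply_symm_apply]
        exact scal_mul_comm A' ι t _)
      refine ⟨x, hscalinj ?_⟩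
      rw [hψ, hx, AlgEquiv.apply_symm_apply]
  let Ψ : A' ⊗[A] ↥(Subalgebra.center A C) ≃ₐ[A'] T := AlgEquiv.ofBijective ψ hψbij
  haveI : Algebra.Etale A' (A' ⊗[A] ↥(Subalgebra.center A C)) := Algebra.Etale.of_equiv Ψ.symm
  haveI hEt : Algebra.Etale A ↥(Subalgebra.center A C) := Algebra.Etale.of_etale_tensorProduct_of_faithfullyFlat A'
  haveI : Module.Finite A' (A' ⊗[A] ↥(Subalgebra.center A C)) := Module.Finite.equiv Ψ.toLinearEquiv.symm
  haveI hfin : Module.Finite A ↥(Subalgebra.center A C) := Module.Finite.of_finite_tensorProduct_of_faithfullyFlat A'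
  haveI : Module.Projective A' (A' ⊗[A] ↥(Subalgebra.center A C)) := Module.Projective.of_equiv Ψ.toLinearEquiv.symm
  haveI : Module.Flat A ↥(Subalgebra.center A C) := Module.Flat.of_flat_tensorProduct A ↥(Subalgebra.center A C) A'
  haveI : Module.FinitePresentation A' (A' ⊗[A] ↥(Subalgebra.center A C)) := Module.finitePresentation_of_projective _ _
  haveI := Groth.L11.Az.finitePresentation_descent A' ↥(Subalgebra.center A C) (R := A)
  haveI hproj : Module.Projective A ↥(Subalgebra.center A C) := Module.Flat.projective_of_finitePresentation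
  refine ⟨hEt, hfin, hproj, fun p => ?_, ?_⟩
  · obtain ⟨q, rfl⟩ := PrimeSpectrum.comap_surjective_of_faithfullyFlat (A := A) (B := A') p
    haveI : Nontrivial A' := PrimeSpectrum.nonempty_iff_nontrivial.1 ⟨q⟩
    rw [← Module.rankAtStalk_baseChange (R := A) (M := ↥(Subalgebra.center A C)) q, Module.rankAtStalk_eq_of_equiv Ψ.toLinearEquiv,
      Module.rankAtStalk_eq_finrank_of_free]
    simp [T]
  · letI : IsScalarTower A ↥(Subalgebra.center A C) C := IsScalarTower.of_algebraMap_eq fun _ => rfl
    exact isAzumaya_of_split e (fun _ => rfl) ψ hψbij fun z => (hψ (1 ⊗ₜ z)).trans rfl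

end Groth.L12.EvenCentre
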